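import Groth.Agent.Amp73.GlobGen
import Groth.Agent.Amp73.TensorFrame
import Groth.Agent.Cyc90.Dev.TensorStalk
import Groth.Agent.Crv77.Sections
import Groth.Agent.Div89.WeakAss
import Groth.Agent.Serre71.Finite
import Groth.Agent.QC70.GenIso
import Groth.Agent.QC70.CohOps
import Mathlib.RingTheory.Filtration
import Mathlib.AlgebraicGeometry.Morphisms.Finite
import Mathlib.AlgebraicGeometry.Morphisms.Integral
import Mathlib.AlgebraicGeometry.Morphisms.QuasiFinite

/-!
Sections of twists by negative powers: the descending chain argument.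
-/

set_option autoImplicit false
set_option backward.isDefEq.respectTransparency.types false
universe u

open CategoryTheory CategoryTheory.Limits AlgebraicGeometry TopologicalSpace Opposite

noncomputable section

namespace Groth.Agent.EnrSev52

open Groth.Agent.Var76.LineBundle Groth.Agent.Var76.ZeroScheme
open Groth.Agent.QC70 (germM stalkMapM stalkLinear)
open Groth.Agent.Amp73 (tm)

variable {X : Scheme.{u}}

/-- `y ↦ y ⊗ t`. -/
def tmRight {G : X.Modules} (t : Γ(G, ⊤)) (N : X.Modules) : N ⟶ CohB1.tensorMod N G :=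
  ⟨PresheafOfModules.homMk (M₁ := N.val) (M₂ := (CohB1.tensorMod N G).val)
    { app := fun U => AddCommGrpCat.ofHom
        { toFun := fun (y : Γ(N, U.unop)) => tm N G y (res G (le_top : U.unop ≤ ⊤) t)
          map_zero' := Amp73.tm_zero_left _
          map_add' := fun y y' => Amp73.tm_add_left y y' _ }
      naturality := fun U V i => by
        ext y
        show tm N G (res N i.unop.le y) (res G (le_top : V.unop ≤ ⊤) t) =
          res (CohB1.tensorMod N G) i.unop.le (tm N G y (res G (le_top : U.unop ≤ ⊤) t))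
        rw [Amp73.res_tm, res_res] }
    (fun _ r y => Amp73.tm_smul_left r y _)⟩

theorem tmRight_app {G : X.Modules} (t : Γ(G, ⊤)) (N : X.Modules) (U : X.Opens) (y : Γ(N, U)) :
    (tmRight t N).app U y = tm N G y (res G le_top t) := rfl

/-- Tensoring with a section generating on an open containing the associated points is injective. -/
theorem tmRight_injective {G H : X.Modules} (hH : Coh.IsQCoh H) (t : Γ(G, ⊤)) {W : X.Opens}
    (ht : IsFrame G W (res G le_top t)) (hW : ∀ x, Curv2.IsWeakAssPoint H x → x ∈ W) :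
    Function.Injective ((tmRight t H).app ⊤) := by
  rw [← AddMonoidHom.coe_coe, injective_iff_map_eq_zero]
  intro m hm
  replace hm : tm H G m (res G le_top t) = 0 := hm
  refine Div89.res_injective_of_weakAss_subset H hH W ⊤ le_top (fun x _ h => hW x h) ?_
  refine (?_ : res H (le_top : W ≤ ⊤) m = 0).trans (map_zero _).symm
  refine Amp73.tm_frame_injective ht le_rfl _ _ ?_
  rw [Amp73.tm_zero_left, Amp73.res_self]
  have h := congrArg (res (CohB1.tensorMod H G) (le_top : W ≤ ⊤)) hm
  rw [Amp73.res_tm, res_res] at h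
  exact h.trans (map_zero _)

/-- Tensoring with a section vanishing at `x` lands in the maximal ideal times the stalk. -/
theorem range_tmRight_stalk {G : X.Modules} (H : X.Modules) (hG : PicF.IsInvertible G) (t : Γ(G, ⊤))
    {x : X} (hx : x ∉ CohB1.genLocus G (Var76.Frames.ofSection G t)) :
    LinearMap.range (stalkLinear (tmRight t H) x) ≤
      IsLocalRing.maximalIdeal (X.presheaf.stalk x) • ⊤ := by
  obtain ⟨U, hxU, e, he⟩ := Mero90.exists_frame' hG x
  obtain ⟨c, hc⟩ := (he U le_rfl).2 (res G le_top t)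
  dsimp only at hc
  rw [Amp73.res_self] at hc
  have hval : c • e = val G (Var76.Frames.ofSection G t) U := by
    rw [hc, Var76.Frames.val_ofSection]
  have hb := Amp73.genLocus_inf_eq_basicOpen _ he hval
  have hcm : X.presheaf.germ U x hxU c ∈ IsLocalRing.maximalIdeal (X.presheaf.stalk x) := by
    rw [IsLocalRing.mem_maximalIdeal, mem_nonunits_iff]
    intro hu
    exact hx (hb.ge ((X.mem_basicOpen c x hxU).2 hu)).1
  rintro _ ⟨d, rfl⟩
  obtain ⟨W, hW, hxW, s, rfl⟩ := Cyc90.Dev.exists_germ_le hxU d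
  show stalkMapM (tmRight t H) x (germM H W x hxW s) ∈ _
  rw [QC70.stalkMapM_germ, tmRight_app]
  have h1 : res G (le_top : W ≤ ⊤) t = fres hW c • res G hW e := by
    rw [← res_res G (le_top : U ≤ ⊤) hW, ← hc, res_smul]
  rw [h1, Amp73.tm_smul_right, QC70.germM_smul]
  refine Submodule.smul_mem_smul ?_ trivial
  rw [show X.presheaf.germ W x hxW (fres hW c) = X.presheaf.germ U x hxU c from
    X.presheaf.germ_res_apply (homOfLE hW) x hxW c]
  exact hcm

theorem isWeakAssPoint_tensor {H G : X.Modules} (hG : PicF.IsInvertible G) {x : X}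
    (h : Curv2.IsWeakAssPoint (CohB1.tensorMod H G) x) : Curv2.IsWeakAssPoint H x := by
  obtain ⟨e⟩ := Cyc90.Dev.nonempty_stalk_equiv hG H x
  obtain ⟨m, hm⟩ := h
  refine ⟨e.symm m, ?_⟩
  rw [← hm]
  congr 1
  ext r
  simp [LinearMap.toSpanSingleton_apply, ← map_smul]

/-- A point outside of an affine open in the closure of a non-closed point. -/
theorem exists_mem_closure_notMem {k : Type u} [Field k] (f : X ⟶ Spec (CommRingCat.of k)) [IsProper f]
    {G : X.Opens} (hG : IsAffineOpen G) {p : X} (hp : ¬ IsClosed ({p} : Set X)) :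
    ∃ x, p ⤳ x ∧ x ∉ G := by
  by_contra hcon
  push Not at hcon
  refine hp ?_
  let I := Scheme.IdealSheafData.vanishingIdeal (⟨closure {p}, isClosed_closure⟩ : Closeds X)
  have hrange : Set.range I.subschemeι = closure ({p} : Set X) := by
    rw [I.range_subschemeι, Scheme.IdealSheafData.coe_support_vanishingIdeal]
    rfl
  have hsub : Set.range I.subschemeι ⊆ Set.range G.ι := by
    rw [hrange, Scheme.Opens.range_ι]
    exact fun x hx => hcon x (specializes_iff_mem_closure.2 hx)
  let ℓ : I.subscheme ⟶ (G : Scheme.{u}) := IsOpenImmersion.lift G.ι I.subschemeι hsub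
  have hℓ : ℓ ≫ G.ι = I.subschemeι := IsOpenImmersion.lift_fac _ _ _
  have : IsAffine (G : Scheme.{u}) := hG
  let q := G.ι ≫ f
  have hw : ℓ ≫ q = I.subschemeι ≫ f := by rw [← Category.assoc, hℓ]
  have : IsProper (ℓ ≫ q) := by rw [hw]; infer_instance
  have : UniversallyClosed ℓ := .of_comp_of_isSeparated ℓ q
  have : QuasiCompact ℓ := QuasiCompact.of_comp ℓ q
  have hs : Surjective ℓ.toImage := by
    constructor
    intro z
    have hd := ℓ.toImage.denseRange
    have hc : IsClosed (Set.range ℓ.toImage) := by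
      have : UniversallyClosed (ℓ.toImage ≫ ℓ.imageι) := by rw [Scheme.Hom.toImage_imageι]; infer_instance
      have : UniversallyClosed ℓ.toImage := .of_comp_of_isSeparated _ ℓ.imageι
      exact ℓ.toImage.isClosedMap.isClosed_range
    have := hc.closure_eq ▸ hd.closure_range
    exact Set.range_eq_univ.1 this z
  have : UniversallyClosed (ℓ.toImage ≫ ℓ.imageι ≫ q) := by
    rw [Scheme.Hom.toImage_imageι_assoc]; infer_instance
  have : UniversallyClosed (ℓ.imageι ≫ q) := .of_comp_surjective ℓ.toImage _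
  have : IsIntegralHom (ℓ.imageι ≫ q) :=
    IsIntegralHom.iff_universallyClosed_and_isAffineHom.2 ⟨‹_›, inferInstance⟩
  have : IsFinite (ℓ.imageι ≫ q) := (IsFinite.iff_isIntegralHom_and_locallyOfFiniteType _).2 ⟨‹_›, inferInstance⟩
  have hdisc := (ℓ.imageι ≫ q).isDiscrete_preimage_singleton (IsLocalRing.closedPoint k)
  have : DiscreteTopology ↥ℓ.image := by
    rw [← isDiscrete_univ_iff]
    convert hdisc
    ext x
    simp only [Set.mem_univ, Set.mem_preimage, Set.mem_singleton_iff, true_iff]
    exact Subsingleton.elim (α := PrimeSpectrum k) _ _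
  have hpc : PreconnectedSpace I.subscheme := ⟨by
    rw [← I.subschemeι.isEmbedding.isInducing.isPreconnected_image, Set.image_univ, hrange]
    exact (isIrreducible_singleton.closure).2.isPreconnected⟩
  have hsing : (Set.range ℓ.toImage).Subsingleton :=
    (isPreconnected_range ℓ.toImage.continuous).subsingleton
  have hXs : (closure ({p} : Set X)).Subsingleton := by
    rw [← hrange]
    rintro _ ⟨a, rfl⟩ _ ⟨b, rfl⟩
    rw [← hℓ, ← ℓ.toImage_imageι, Scheme.Hom.comp_apply, Scheme.Hom.comp_apply, Scheme.Hom.comp_apply,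
      Scheme.Hom.comp_apply, hsing ⟨a, rfl⟩ ⟨b, rfl⟩]
  have heq : closure ({p} : Set X) = {p} :=
    hXs.eq_singleton_of_mem (subset_closure rfl)
  rw [← heq]
  exact isClosed_closure

variable (k : Type u) [Field k] [X.Over (Spec (CommRingCat.of k))]
  [IsProper (X ↘ (Spec (CommRingCat.of k)))]

/-- The composite of the first `i` maps of a chain. -/
def chain {H : ℕ → X.Modules} (τ : ∀ i, H (i + 1) ⟶ H i) : (i : ℕ) → (H i ⟶ H 0)
  | 0 => 𝟙 _
  | i + 1 => τ i ≫ chain τ i

theorem range_chain_stalk {H : ℕ → X.Modules} (τ : ∀ i, H (i + 1) ⟶ H i) (x : X)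
    (I : Ideal (X.presheaf.stalk x)) (h : ∀ i, LinearMap.range (stalkLinear (τ i) x) ≤ I • ⊤) :
    ∀ i, LinearMap.range (stalkLinear (chain τ i) x) ≤ I ^ i • ⊤
  | 0 => by simp
  | i + 1 => by
    have hc : stalkLinear (chain τ (i + 1)) x = stalkLinear (chain τ i) x ∘ₗ stalkLinear (τ i) x :=
      LinearMap.ext fun d => QC70.stalkMapM_comp (τ i) (chain τ i) x d
    rw [hc, LinearMap.range_comp, pow_succ', Submodule.mul_smul]
    refine (Submodule.map_mono (h i)).trans ?_
    rw [Submodule.map_smul'', Submodule.map_top]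
    exact Submodule.smul_mono le_rfl (range_chain_stalk τ x I h i)

theorem chain_app_injective {H : ℕ → X.Modules} (τ : ∀ i, H (i + 1) ⟶ H i)
    (hτ : ∀ i, Function.Injective ((τ i).app ⊤)) : ∀ i, Function.Injective ((chain τ i).app ⊤)
  | 0 => fun _ _ h => h
  | i + 1 => fun a b h => hτ i (chain_app_injective τ hτ i h)

include k in
/-- A chain of maps injective on sections, with stalks contracted off an affine open containing all
associated points, none of which is closed, has no sections far out. -/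
theorem eventually_subsingleton {H : ℕ → X.Modules} (hH : ∀ i, Coh.IsCoh (H i))
    (τ : ∀ i, H (i + 1) ⟶ H i) (hinj : ∀ i, Function.Injective ((τ i).app ⊤))
    {G : X.Opens} (hG : IsAffineOpen G)
    (hass : ∀ x, Curv2.IsWeakAssPoint (H 0) x → ¬ IsClosed ({x} : Set X))
    (hτ : ∀ i, ∀ x, x ∉ G → LinearMap.range (stalkLinear (τ i) x) ≤
      IsLocalRing.maximalIdeal (X.presheaf.stalk x) • ⊤) :
    ∃ i₀, ∀ i, i₀ ≤ i → Subsingleton (Coh.HH X (H i) 0) := by
  have : IsLocallyNoetherian X :=
    LocallyOfFiniteType.isLocallyNoetherian (X ↘ (Spec (CommRingCat.of k)))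
  have : Module.Finite k (Coh.HH X (H 0) 0) := Serre71.finite_hh_of_isProper k (H 0) (hH 0) 0
  let c : ∀ i, Coh.HH X (H i) 0 →ₗ[k] Coh.HH X (H 0) 0 := fun i => Crv77.hmap k (chain τ i) 0
  have cinj : ∀ i, Function.Injective (c i) := fun i a b h => by
    have h2 := congrArg (Crv77.sec (H 0)) h
    rw [Crv77.sec_hmap, Crv77.sec_hmap] at h2
    exact (Crv77.sec (H i)).injective (chain_app_injective τ hinj i h2)
  have canti : Antitone fun i => LinearMap.range (c i) := antitone_nat_of_succ_le fun i => by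
    rintro _ ⟨y, rfl⟩
    exact ⟨Crv77.hmap k (τ i) 0 y, Crv77.hmap_comp k (τ i) (chain τ i) 0 y⟩
  obtain ⟨i₀, hi₀⟩ := IsArtinian.monotone_stabilizes
    (⟨fun i => OrderDual.toDual (LinearMap.range (c i)), fun _ _ h => canti h⟩ :
      ℕ →o (Submodule k (Coh.HH X (H 0) 0))ᵒᵈ)
  refine ⟨i₀, fun i hi => subsingleton_of_forall_eq 0 fun y => cinj i ?_⟩
  rw [map_zero]
  refine (Crv77.sec (H 0)).injective ?_
  rw [map_zero]
  set σ := Crv77.sec (H 0) (c i y) with hσ
  haveI : (H 0).IsQuasicoherent := (hH 0).1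
  haveI : (H 0).IsFiniteType := (hH 0).2
  have hoff : ∀ x, x ∉ G → germM (H 0) ⊤ x trivial σ = 0 := by
    intro x hx
    have := QC70.finite_stalk (H 0) x
    have hmem : ∀ j, germM (H 0) ⊤ x trivial σ ∈
        IsLocalRing.maximalIdeal (X.presheaf.stalk x) ^ j • (⊤ : Submodule (X.presheaf.stalk x) _) := by
      intro j
      have hle : LinearMap.range (c i) ≤ LinearMap.range (c j) := by
        rcases le_total j i with hji | hij
        · exact canti hji
        · exact (OrderDual.toDual.injective ((hi₀ i hi).symm.trans (hi₀ j (hi.trans hij)))).le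
      obtain ⟨z, hz⟩ := hle ⟨y, rfl⟩
      have hz' : σ = (chain τ j).app ⊤ (Crv77.sec (H j) z) := by
        rw [hσ, ← hz, Crv77.sec_hmap]
      rw [hz', ← QC70.stalkMapM_germ]
      exact range_chain_stalk τ x _ (fun l => hτ l x hx) j ⟨_, rfl⟩
    have h0 := Ideal.iInf_pow_smul_eq_bot_of_isLocalRing (M := (H 0).presheaf.stalk x)
      (IsLocalRing.maximalIdeal (X.presheaf.stalk x)) (IsLocalRing.maximalIdeal.isMaximal _).ne_top
    exact (Submodule.mem_bot (X.presheaf.stalk x)).1 (h0.le ((Submodule.mem_iInf _).2 hmem))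
  refine Div89.section_eq_zero_of_germ_weakAss (H 0) (hH 0).1 σ fun p hp hw => ?_
  obtain ⟨x, hpx, hxG⟩ := exists_mem_closure_notMem (X ↘ (Spec (CommRingCat.of k))) hG (hass p hw)
  rw [← TopCat.Presheaf.germ_stalkSpecializes_apply (H 0).presheaf (U := ⊤) trivial hpx σ]
  exact (congrArg _ (hoff x hxG)).trans (map_zero _)

end Groth.Agent.EnrSev52

end
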