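import Groth.Agent.EnrSev52.Chain
import Mathlib.RingTheory.Nakayama
import Mathlib.LinearAlgebra.FiniteDimensional.Lemmas

/-!
The strict drop of global sections under a twist down.
-/

set_option autoImplicit false
set_option backward.isDefEq.respectTransparency.types false
universe u

open CategoryTheory CategoryTheory.Limits AlgebraicGeometry TopologicalSpace Opposite

noncomputable section

namespace Groth.Agent.EnrSev52

open Groth.Agent.Var76.LineBundle Groth.Agent.Var76.ZeroScheme
open Groth.Agent.QC70 (germM stalkMapM stalkLinear)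
open Groth.Agent.Amp73 (tm)

variable {X : Scheme.{u}} (k : Type u) [Field k] [X.Over (Spec (CommRingCat.of k))]
  [IsProper (X ↘ (Spec (CommRingCat.of k)))]

include k in
/-- Twisting down does not gain sections. -/
theorem finrank_le_of_twist {H P F : X.Modules} (hH : Coh.IsCoh H) (hF : Coh.IsCoh F)
    (φ : CohB1.tensorMod H P ≅ F) (t : Γ(P, ⊤))
    (hass : ∀ x, Curv2.IsWeakAssPoint H x → x ∈ CohB1.genLocus P (Var76.Frames.ofSection P t)) :
    Module.finrank k (Coh.HH X H 0) ≤ Module.finrank k (Coh.HH X F 0) := by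
  have : Module.Finite k (Coh.HH X F 0) := by
    have : IsLocallyNoetherian X :=
      LocallyOfFiniteType.isLocallyNoetherian (X ↘ (Spec (CommRingCat.of k)))
    exact Serre71.finite_hh_of_isProper k F hF 0
  have hframe : IsFrame P (CohB1.genLocus P (Var76.Frames.ofSection P t)) (res P le_top t) := by
    have h := Amp73.isFrame_genLocus (Var76.Frames.ofSection P t)
    rwa [Var76.Frames.val_ofSection] at h
  refine LinearMap.finrank_le_finrank_of_injective (f := Crv77.hmap k (tmRight t H ≫ φ.hom) 0) ?_
  intro a b h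
  have h2 := congrArg (Crv77.sec F) h
  rw [Crv77.sec_hmap, Crv77.sec_hmap] at h2
  exact (Crv77.sec H).injective (tmRight_injective hH.1 t hframe hass
    ((ConcreteCategory.bijective_of_isIso (φ.hom.app ⊤)).1 h2))

include k in
/-- If no sections are lost when twisting down by a generated invertible module, there are no
sections at all, provided no associated point is closed. -/
theorem finrank_lt_of_twist {H P F : X.Modules} (hH : Coh.IsCoh H) (hF : Coh.IsCoh F)
    (hP : PicF.IsInvertible P) (φ : CohB1.tensorMod H P ≅ F) (t : Γ(P, ⊤))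
    (hG : IsAffineOpen (CohB1.genLocus P (Var76.Frames.ofSection P t)))
    (hass : ∀ x, Curv2.IsWeakAssPoint H x →
      x ∈ CohB1.genLocus P (Var76.Frames.ofSection P t) ∧ ¬ IsClosed ({x} : Set X))
    (hgen : ∀ x : X, ∃ t' : Γ(P, ⊤), x ∈ CohB1.genLocus P (Var76.Frames.ofSection P t'))
    (h0 : 1 ≤ Module.finrank k (Coh.HH X F 0)) :
    Module.finrank k (Coh.HH X H 0) + 1 ≤ Module.finrank k (Coh.HH X F 0) := by
  have : IsLocallyNoetherian X :=
    LocallyOfFiniteType.isLocallyNoetherian (X ↘ (Spec (CommRingCat.of k)))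
  have : Module.Finite k (Coh.HH X H 0) := Serre71.finite_hh_of_isProper k H hH 0
  have : Module.Finite k (Coh.HH X F 0) := Serre71.finite_hh_of_isProper k F hF 0
  set G := CohB1.genLocus P (Var76.Frames.ofSection P t)
  have hframe : IsFrame P G (res P le_top t) := by
    have h := Amp73.isFrame_genLocus (Var76.Frames.ofSection P t)
    rwa [Var76.Frames.val_ofSection] at h
  let μ := Crv77.hmap k (tmRight t H ≫ φ.hom) 0
  have μinj : Function.Injective μ := fun a b h => by
    have h2 := congrArg (Crv77.sec F) h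
    rw [Crv77.sec_hmap, Crv77.sec_hmap] at h2
    exact (Crv77.sec H).injective (tmRight_injective hH.1 t hframe (fun x hx => (hass x hx).1)
      ((ConcreteCategory.bijective_of_isIso (φ.hom.app ⊤)).1 h2))
  by_contra hcon
  have heq : Module.finrank k (Coh.HH X H 0) = Module.finrank k (Coh.HH X F 0) := by
    have := LinearMap.finrank_le_finrank_of_injective μinj
    omega
  have μsurj := (LinearMap.injective_iff_surjective_of_finrank_eq_finrank heq).1 μinj
  suffices hz : ∀ w : Coh.HH X H 0, w = 0 by
    have : Subsingleton (Coh.HH X H 0) := subsingleton_of_forall_eq 0 hz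
    have := Module.finrank_zero_of_subsingleton (R := k) (M := Coh.HH X H 0)
    omega
  haveI : H.IsQuasicoherent := hH.1
  haveI : H.IsFiniteType := hH.2
  have hoff : ∀ x, x ∉ G → ∀ w : Coh.HH X H 0, germM H ⊤ x trivial (Crv77.sec H w) = 0 := by
    intro x hx
    have := QC70.finite_stalk H x
    let W₀ : Submodule (X.presheaf.stalk x) (H.presheaf.stalk x) :=
      Submodule.span _ (Set.range fun w => germM H ⊤ x trivial (Crv77.sec H w))
    suffices hW : W₀ = ⊥ from fun w =>
      (Submodule.mem_bot (X.presheaf.stalk x)).1 (hW.le (Submodule.subset_span ⟨w, rfl⟩))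
    refine Submodule.eq_bot_of_le_smul_of_le_jacobson_bot (IsLocalRing.maximalIdeal _) W₀
      (IsNoetherian.noetherian _) (Submodule.span_le.2 ?_) (IsLocalRing.maximalIdeal_le_jacobson _)
    rintro _ ⟨w, rfl⟩
    obtain ⟨t', hxt'⟩ := hgen x
    set U := CohB1.genLocus P (Var76.Frames.ofSection P t')
    have he : IsFrame P U (res P le_top t') := by
      have h := Amp73.isFrame_genLocus (Var76.Frames.ofSection P t')
      rwa [Var76.Frames.val_ofSection] at h
    obtain ⟨w', hw'⟩ := μsurj (Crv77.hmap k (tmRight t' H ≫ φ.hom) 0 w)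
    have h2 := congrArg (Crv77.sec F) hw'
    rw [Crv77.sec_hmap, Crv77.sec_hmap] at h2
    have h3 : tm H P (Crv77.sec H w') (res P le_top t) = tm H P (Crv77.sec H w) (res P le_top t') :=
      (ConcreteCategory.bijective_of_isIso (φ.hom.app ⊤)).1 h2
    obtain ⟨c, hc⟩ := (he U le_rfl).2 (res P le_top t)
    dsimp only at hc
    rw [Amp73.res_self] at hc
    have hb := Amp73.genLocus_inf_eq_basicOpen (Var76.Frames.ofSection P t) he
      (hc.trans (Var76.Frames.val_ofSection P t U).symm)
    have hcm : X.presheaf.germ U x hxt' c ∈ IsLocalRing.maximalIdeal (X.presheaf.stalk x) := by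
      rw [IsLocalRing.mem_maximalIdeal, mem_nonunits_iff]
      intro hu
      exact hx (hb.ge ((X.mem_basicOpen c x hxt').2 hu)).1
    have h4 := congrArg (res (CohB1.tensorMod H P) (le_top : U ≤ ⊤)) h3
    rw [Amp73.res_tm, Amp73.res_tm, res_res, res_res, ← hc, Amp73.tm_smul_right, ← Amp73.tm_smul_left]
      at h4
    have h5 := Amp73.tm_frame_injective he le_rfl (c • res H le_top (Crv77.sec H w'))
      (res H le_top (Crv77.sec H w)) (by rw [Amp73.res_self]; exact h4)
    show germM H ⊤ x trivial (Crv77.sec H w) ∈ _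
    rw [← QC70.germM_res (le_top : U ≤ ⊤) hxt']
    change germM H U x hxt' (res H le_top (Crv77.sec H w)) ∈ _
    rw [← h5, QC70.germM_smul]
    refine Submodule.smul_mem_smul hcm (Submodule.subset_span ⟨w', ?_⟩)
    exact (QC70.germM_res (le_top : U ≤ ⊤) hxt' _).symm
  intro w
  refine (Crv77.sec H).injective (Eq.trans ?_ (map_zero _).symm)
  refine Div89.section_eq_zero_of_germ_weakAss H hH.1 _ fun p hp hw => ?_
  obtain ⟨x, hpx, hxG⟩ := exists_mem_closure_notMem (X ↘ (Spec (CommRingCat.of k))) hG (hass p hw).2
  rw [← TopCat.Presheaf.germ_stalkSpecializes_apply H.presheaf (U := ⊤) trivial hpx (Crv77.sec H w)]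
  exact (congrArg _ (hoff x hxG w)).trans (map_zero _)

end Groth.Agent.EnrSev52

end
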