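import Groth.Agent.EnrSev52.Drop
import Groth.Agent.Var76.RegTools
import Groth.Agent.Amp73.ProjAmple
import Groth.Agent.Curves2.ProjLineProper
import Groth.Agent.S1576
import Mathlib.GroupTheory.CosetCover
import Mathlib.FieldTheory.IsAlgClosed.Basic

/-!
The strict drop on projective space over an infinite field.
-/

set_option autoImplicit false
set_option backward.isDefEq.respectTransparency.types false
universe u

open CategoryTheory CategoryTheory.Limits AlgebraicGeometry TopologicalSpace Opposite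

noncomputable section

namespace Groth.Agent.EnrSev52

variable (k : Type u) [Field k] [Infinite k] (N : ℕ)

/-- A linear form avoiding finitely many points of projective space. -/
theorem exists_linForm_avoid {Z : Set ↥(CohB1.ProjSpace N k)} (hZ : Z.Finite) :
    ∃ f : CohB1.polyGrading N k 1,
      ∀ z ∈ Z, z ∈ Proj.basicOpen (CohB1.polyGrading N k) (f : MvPolynomial (Fin (N + 1)) k) := by
  classical
  let V : ↥(CohB1.ProjSpace N k) → Subspace k (CohB1.polyGrading N k 1) := fun z =>
    ((z : ProjectiveSpectrum (CohB1.polyGrading N k)).asHomogeneousIdeal.toIdeal.restrictScalars k).comap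
      (CohB1.polyGrading N k 1).subtype
  have htop : (⊤ : Subspace k (CohB1.polyGrading N k 1)) ∉ hZ.toFinset.image V := by
    intro h
    obtain ⟨z, -, hz⟩ := Finset.mem_image.1 h
    refine ProjectiveSpectrum.not_irrelevant_le (z : ProjectiveSpectrum (CohB1.polyGrading N k))
      ((Var76.Reg.hgen N k).trans_le (Ideal.span_le.2 fun a ha => ?_))
    have h1 : (⟨a, ha⟩ : CohB1.polyGrading N k 1) ∈ V z := hz ▸ Submodule.mem_top
    exact h1
  have hne := Subspace.biUnion_ne_univ_of_top_notMem htop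
  obtain ⟨f, hf⟩ := (Set.ne_univ_iff_exists_notMem _).1 hne
  refine ⟨f, fun z hz hfz => hf ?_⟩
  exact Set.mem_iUnion₂.2 ⟨V z, Finset.mem_image_of_mem V (hZ.mem_toFinset.2 hz), hfz⟩

/-- Strict drop of sections under a negative twist on projective space. -/
theorem projSpace_drop (H : (CohB1.ProjSpace N k).Modules) (hH : Coh.IsCoh H) {a b : ℤ} (hab : a + 1 = b)
    (hass : ∀ x, Curv2.IsAssPoint H x → ¬ IsClosed ({x} : Set ↥(CohB1.ProjSpace N k)))
    (h0 : 1 ≤ Module.finrank k (Coh.HH (CohB1.ProjSpace N k) (CohB1.tensorMod H (Twist.twistProjSpace N k b)) 0)) :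
    Module.finrank k (Coh.HH (CohB1.ProjSpace N k) (CohB1.tensorMod H (Twist.twistProjSpace N k a)) 0) + 1 ≤
      Module.finrank k (Coh.HH (CohB1.ProjSpace N k) (CohB1.tensorMod H (Twist.twistProjSpace N k b)) 0) := by
  have : IsProper (CohB1.ProjSpace.toSpec N k) := Curves2.ProjLine.isProper_toSpec k N
  have : IsProper (CohB1.ProjSpace N k ↘ Spec (CommRingCat.of k)) := this
  have : IsLocallyNoetherian (CohB1.ProjSpace N k) :=
    LocallyOfFiniteType.isLocallyNoetherian (CohB1.ProjSpace N k ↘ Spec (CommRingCat.of k))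
  have : CompactSpace (CohB1.ProjSpace N k) :=
    QuasiCompact.compactSpace_of_compactSpace (CohB1.ProjSpace N k ↘ Spec (CommRingCat.of k))
  have hfin : {x | Curv2.IsAssPoint H x}.Finite :=
    (S1576.result _ H hH ⊤ isCompact_univ).subset fun x hx => ⟨trivial, hx⟩
  obtain ⟨f, hf⟩ := exists_linForm_avoid k N hfin
  have hI : ∀ d : ℤ, PicF.IsInvertible (Twist.twistProjSpace N k d) := fun d => Var76.Reg.isInvertible_twist d
  have hco : ∀ d : ℤ, Coh.IsCoh (CohB1.tensorMod H (Twist.twistProjSpace N k d)) := fun d =>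
    Amp73.isCoh_tensorMod hH (Amp73.isCoh_of_isInvertible (hI d))
  obtain ⟨φ⟩ := Var76.Reg.nonempty_tw_tw (n := N) (A := k) H hab
  have hloc : ∀ g : CohB1.polyGrading N k 1,
      CohB1.genLocus (Twist.twistProjSpace N k 1) (Var76.Frames.ofSection (Twist.twistProjSpace N k 1)
        (Twist.globalOf (CohB1.polyGrading N k) g : Twist.sectN (𝒜 := CohB1.polyGrading N k) ((1 : ℕ) : ℤ) (op ⊤))) =
        Proj.basicOpen (CohB1.polyGrading N k) (g : MvPolynomial (Fin (N + 1)) k) := fun g =>
    Amp73.genLocus_degOneHom (Var76.Reg.hgen N k) g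
  refine finrank_lt_of_twist k (hco a) (hco b) (hI 1) φ
    (Twist.globalOf (CohB1.polyGrading N k) f : Twist.sectN (𝒜 := CohB1.polyGrading N k) ((1 : ℕ) : ℤ) (op ⊤))
    ?_ (fun x hx => ?_) (fun x => ?_) h0
  · rw [hloc]
    exact Proj.isAffineOpen_basicOpen _ _ f.2 zero_lt_one
  · have h := (Div89.isAssPoint_iff_isWeakAssPoint H x).2 (isWeakAssPoint_tensor (hI a) hx)
    rw [hloc]
    exact ⟨hf x h, hass x h⟩
  · obtain ⟨g, hg, hxg⟩ : ∃ g ∈ CohB1.polyGrading N k 1,
        g ∉ (x : ProjectiveSpectrum (CohB1.polyGrading N k)).asHomogeneousIdeal := by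
      by_contra hcon
      push Not at hcon
      exact ProjectiveSpectrum.not_irrelevant_le (x : ProjectiveSpectrum (CohB1.polyGrading N k))
        ((Var76.Reg.hgen N k).trans_le (Ideal.span_le.2 hcon))
    refine ⟨(Twist.globalOf (CohB1.polyGrading N k) (⟨g, hg⟩ : CohB1.polyGrading N k 1) :
      Twist.sectN (𝒜 := CohB1.polyGrading N k) ((1 : ℕ) : ℤ) (op ⊤)), ?_⟩
    rw [hloc]
    exact hxg

/-- Sections do not grow under a negative twist on projective space. -/
theorem projSpace_mono (H : (CohB1.ProjSpace N k).Modules) (hH : Coh.IsCoh H) {a b : ℤ} (hab : a + 1 = b)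
    :
    Module.finrank k (Coh.HH (CohB1.ProjSpace N k) (CohB1.tensorMod H (Twist.twistProjSpace N k a)) 0) ≤
      Module.finrank k (Coh.HH (CohB1.ProjSpace N k) (CohB1.tensorMod H (Twist.twistProjSpace N k b)) 0) := by
  have : IsProper (CohB1.ProjSpace.toSpec N k) := Curves2.ProjLine.isProper_toSpec k N
  have : IsProper (CohB1.ProjSpace N k ↘ Spec (CommRingCat.of k)) := this
  have : IsLocallyNoetherian (CohB1.ProjSpace N k) :=
    LocallyOfFiniteType.isLocallyNoetherian (CohB1.ProjSpace N k ↘ Spec (CommRingCat.of k))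
  have : CompactSpace (CohB1.ProjSpace N k) :=
    QuasiCompact.compactSpace_of_compactSpace (CohB1.ProjSpace N k ↘ Spec (CommRingCat.of k))
  have hfin : {x | Curv2.IsAssPoint H x}.Finite :=
    (S1576.result _ H hH ⊤ isCompact_univ).subset fun x hx => ⟨trivial, hx⟩
  obtain ⟨f, hf⟩ := exists_linForm_avoid k N hfin
  have hI : ∀ d : ℤ, PicF.IsInvertible (Twist.twistProjSpace N k d) := fun d => Var76.Reg.isInvertible_twist d
  have hco : ∀ d : ℤ, Coh.IsCoh (CohB1.tensorMod H (Twist.twistProjSpace N k d)) := fun d =>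
    Amp73.isCoh_tensorMod hH (Amp73.isCoh_of_isInvertible (hI d))
  obtain ⟨φ⟩ := Var76.Reg.nonempty_tw_tw (n := N) (A := k) H hab
  have hloc : ∀ g : CohB1.polyGrading N k 1,
      CohB1.genLocus (Twist.twistProjSpace N k 1) (Var76.Frames.ofSection (Twist.twistProjSpace N k 1)
        (Twist.globalOf (CohB1.polyGrading N k) g : Twist.sectN (𝒜 := CohB1.polyGrading N k) ((1 : ℕ) : ℤ) (op ⊤))) =
        Proj.basicOpen (CohB1.polyGrading N k) (g : MvPolynomial (Fin (N + 1)) k) := fun g =>
    Amp73.genLocus_degOneHom (Var76.Reg.hgen N k) g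
  refine finrank_le_of_twist k (hco a) (hco b) φ
    (Twist.globalOf (CohB1.polyGrading N k) f : Twist.sectN (𝒜 := CohB1.polyGrading N k) ((1 : ℕ) : ℤ) (op ⊤))
    fun x hx => ?_
  rw [hloc]
  exact hf x ((Div89.isAssPoint_iff_isWeakAssPoint H x).2 (isWeakAssPoint_tensor (hI a) hx))

/-- `F(0) = F` on cohomology. -/
theorem finrank_tw_zero (F : (CohB1.ProjSpace N k).Modules) :
    Module.finrank k (Coh.HH (CohB1.ProjSpace N k) (CohB1.tensorMod F (Twist.twistProjSpace N k 0)) 0) =
      Module.finrank k (Coh.HH (CohB1.ProjSpace N k) F 0) := by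
  obtain ⟨e⟩ := Var76.Reg.nonempty_tw_zero (n := N) (A := k) F
  exact (Crv77.hEquiv k e 0).finrank_eq

end Groth.Agent.EnrSev52

end
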