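import Groth.Agent.EnrSev52.Chain
import Groth.Agent.Amp73.Avoid
import Groth.Agent.Amp73.Powers
import Groth.Agent.Amp73.Local
import Groth.Agent.S1576

/-!
Vanishing of sections of high negative twists (Enriques–Severi, degree zero).
-/

set_option autoImplicit false
set_option backward.isDefEq.respectTransparency.types false
universe u

open CategoryTheory CategoryTheory.Limits AlgebraicGeometry TopologicalSpace Opposite

noncomputable section

namespace Groth.Agent.EnrSev52

open Groth.Agent.Var76.LineBundle Groth.Agent.Var76.ZeroScheme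
open Groth.Agent.QC70 (germM stalkMapM stalkLinear)

variable {X : Scheme.{u}}

/-- Cancellation of an inverse pair of twists. -/
def cancelIso (F : X.Modules) {P Q : X.Modules} (e : CohB1.tensorMod P Q ≅ Coh.structureModule X)
    (A : X.Modules) {B : X.Modules} (b : CohB1.tensorMod A P ≅ B) :
    CohB1.tensorMod (CohB1.tensorMod F B) Q ≅ CohB1.tensorMod F A :=
  EGA73.tensIso (EGA73.tensIso (Iso.refl F) b.symm ≪≫ (EGA73.tensAssoc' F A P).symm) (Iso.refl Q) ≪≫
    EGA73.tensAssoc' _ P Q ≪≫ EGA73.tensIso (Iso.refl _) e ≪≫ EGA73.tensUnitRight _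

theorem stalkLinear_comp {M N P : X.Modules} (f : M ⟶ N) (g : N ⟶ P) (x : X) :
    stalkLinear (f ≫ g) x = stalkLinear g x ∘ₗ stalkLinear f x :=
  LinearMap.ext fun d => QC70.stalkMapM_comp f g x d

theorem genLocus_ofSection_val {P : X.Modules} (s : Coh.structureModule X ⟶ P) :
    CohB1.genLocus P (Var76.Frames.ofSection P (val P s ⊤)) = CohB1.genLocus P s := by
  ext x
  show x ∈ CohB1.genLocus P _ ↔ x ∈ CohB1.genLocus P s
  rw [Amp73.mem_genLocus_iff, Amp73.mem_genLocus_iff]
  simp only [Var76.Frames.val_ofSection, res_val]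

/-- Enriques–Severi in degree zero: no closed associated points, no sections of high negative twists. -/
theorem h0_vanishes (k : Type u) [Field k] [X.Over (Spec (CommRingCat.of k))]
    [IsProper (X ↘ (Spec (CommRingCat.of k)))] {L M : X.Modules} (hL : CohB1.IsAmple L)
    (hLM : Nonempty (CohB1.tensorMod L M ≅ Coh.structureModule X)) (hM : PicF.IsInvertible M)
    (F : X.Modules) (hF : Coh.IsCoh F) (hass : ∀ x : X, IsClosed ({x} : Set X) → ¬ Curv2.IsAssPoint F x) :
    ∃ n₀ : ℕ, ∀ n : ℕ, n₀ ≤ n → Subsingleton (Coh.HH X (CohB1.tensorMod F (CohB1.tensorPow M n)) 0) := by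
  have : IsLocallyNoetherian X :=
    LocallyOfFiniteType.isLocallyNoetherian (X ↘ (Spec (CommRingCat.of k)))
  have : CompactSpace X := QuasiCompact.compactSpace_of_compactSpace (X ↘ (Spec (CommRingCat.of k)))
  obtain ⟨e⟩ := hLM
  have hfin : {x : X | Curv2.IsAssPoint F x}.Finite :=
    (S1576.result X F hF ⊤ isCompact_univ).subset fun x hx => ⟨trivial, hx⟩
  obtain ⟨_, ⟨m, s, rfl⟩, hAss, -, hAff⟩ :=
    Amp73.exists_affine_genSet_of_finite hL hfin (U := ⊤) (Set.subset_univ _)
  let N := m + 1
  let P := CohB1.tensorPow L N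
  have hP : PicF.IsInvertible P := EGA73.isInvertible_tensorPow hL.1 N
  let t : Γ(P, ⊤) := val P s ⊤
  let G := CohB1.genLocus P s
  have ht : IsFrame P G (res P le_top t) := by
    have h := Amp73.isFrame_genLocus s
    rw [← res_val P s (le_top : G ≤ ⊤)] at h
    exact h
  let eN : CohB1.tensorMod (CohB1.tensorPow M N) P ≅ Coh.structureModule X :=
    EGA73.tensComm _ _ ≪≫ (Amp73.powTens L M N).symm ≪≫ Amp73.powIso e N ≪≫ Amp73.powUnit X N
  have hcoh : ∀ n, Coh.IsCoh (CohB1.tensorMod F (CohB1.tensorPow M n)) := fun n =>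
    Amp73.isCoh_tensorMod hF (Amp73.isCoh_of_isInvertible (EGA73.isInvertible_tensorPow hM n))
  have hweak : ∀ n x, Curv2.IsWeakAssPoint (CohB1.tensorMod F (CohB1.tensorPow M n)) x →
      Curv2.IsAssPoint F x := fun n x h =>
    (Div89.isAssPoint_iff_isWeakAssPoint F x).2
      (isWeakAssPoint_tensor (EGA73.isInvertible_tensorPow hM n) h)
  have key : ∀ r, ∃ i₀, ∀ i, i₀ ≤ i →
      Subsingleton (Coh.HH X (CohB1.tensorMod F (CohB1.tensorPow M (r + i * N))) 0) := by
    intro r
    let H : ℕ → X.Modules := fun i => CohB1.tensorMod F (CohB1.tensorPow M (r + i * N))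
    let θ : ∀ i, CohB1.tensorMod (H (i + 1)) P ≅ H i := fun i =>
      cancelIso F eN _ (Amp73.powAdd M (r + i * N) N ≪≫
        eqToIso (congrArg (CohB1.tensorPow M) (by ring)))
    refine eventually_subsingleton k (H := H) (fun i => hcoh _)
      (fun i => tmRight t (H (i + 1)) ≫ (θ i).hom) (fun i => ?_) (G := G) hAff
      (fun x hx => fun hc => hass x hc (hweak _ x hx)) (fun i x hx => ?_)
    · intro a b h
      exact tmRight_injective (hcoh _).1 t ht (fun x hx => hAss (hweak _ x hx))
        ((ConcreteCategory.bijective_of_isIso ((θ i).hom.app ⊤)).1 h)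
    · rw [stalkLinear_comp, LinearMap.range_comp]
      refine (Submodule.map_mono (range_tmRight_stalk _ hP t ?_)).trans ?_
      · rw [genLocus_ofSection_val]; exact hx
      · rw [Submodule.map_smul'']
        exact Submodule.smul_mono le_rfl le_top
  choose i₀ hi₀ using key
  refine ⟨((Finset.range N).sup i₀ + 1) * N, fun n hn => ?_⟩
  have hle : i₀ (n % N) ≤ n / N := by
    have h1 : i₀ (n % N) ≤ (Finset.range N).sup i₀ :=
      Finset.le_sup (f := i₀) (Finset.mem_range.2 (Nat.mod_lt _ (Nat.succ_pos m)))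
    have h2 : (Finset.range N).sup i₀ + 1 ≤ n / N := (Nat.le_div_iff_mul_le (Nat.succ_pos m)).2 hn
    omega
  have := hi₀ (n % N) (n / N) hle
  rwa [Nat.mod_add_div' n N] at this

end Groth.Agent.EnrSev52

end
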